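import Cfsg.Agent.H740.FiveBase
import Cfsg.Agent.H678.SuzGraph
import Cfsg.Agent.S2126
import Cfsg.Agent.Prune
set_option linter.all false
prune_inst 0x7f00000000000000000000000000000000000000000000000000000000000000000000000000000000000000000000000000000000000000000000000000000000000000000000000000000000000000003fffffffffffffffffffffffffffbeffbdffffffff
open scoped Cfsg.Agent.FastGrp

/-!
# Five character degrees: almost simple groups with socle a Suzuki group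
-/

set_option autoImplicit false

open Cfsg

namespace Cfsg.Agent.H740.FiveSz

open Cfsg.Agent.H740.FiveBase

universe u

theorem five_sz {G : Type u} [Group G] [Finite G] (M : Subgroup G) (hM : M.Normal)
    (hc : Subgroup.centralizer (M : Set G) = ⊥) (h : Cfsg.Lie.IsoSuzuki M) :
    5 ≤ (Cfsg.charDegrees G).ncard := by
  obtain ⟨F, _, _, m, hm, hF, ⟨e⟩⟩ := h
  have hidx : M.index ∣ 2 * m + 1 := by
    have h1 := index_dvd_out M hM hc
    rw [H55.OutGen.card_out_congr e, S2126.result hm hF] at h1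
    exact h1
  obtain ⟨n, rfl⟩ : ∃ n, m = n + 1 := ⟨m - 1, by omega⟩
  obtain ⟨k, hk⟩ : ∃ k, k = 2 ^ n := ⟨_, rfl⟩
  have hk1 : n + 1 ≤ k := hk ▸ Nat.lt_two_pow_self
  have hk2 : k ≤ k ^ 2 := Nat.le_self_pow two_ne_zero k
  obtain ⟨t, ht⟩ : ∃ t, t + 1 = 8 * k ^ 2 := ⟨8 * k ^ 2 - 1, by omega⟩
  obtain ⟨a, ha⟩ : ∃ a, a = 8 * k ^ 2 + 4 * k + 1 := ⟨_, rfl⟩
  obtain ⟨b, hb⟩ : ∃ b, b + 4 * k = 8 * k ^ 2 + 1 := ⟨8 * k ^ 2 + 1 - 4 * k, by omega⟩
  have hdeg := H678.SuzGraph.mem_charDegrees hm hF ⟨e⟩ k t a b (by rw [hk]; rfl) ht ha hb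
  have hodd : ∀ s, s ∣ M.index → Odd s := by
    intro s hs
    have h1 : Odd (2 * (n + 1) + 1) := ⟨n + 1, rfl⟩
    exact Odd.of_dvd_nat h1 (hs.trans hidx)
  have hle : ∀ s, s ∣ M.index → s < t := by
    intro s hs
    have h1 := Nat.le_of_dvd (by omega) (hs.trans hidx)
    omega
  have hto : Odd t := by
    rw [← Nat.not_even_iff_odd]
    rintro ⟨r, hr⟩
    omega
  have hao : Odd a := ⟨4 * k ^ 2 + 2 * k, by omega⟩
  have hk4 : 64 * k ^ 4 = 2 * (32 * k ^ 4) := by ring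
  have hev : ∀ x y : ℕ, Odd y → 2 * x ≠ y := by
    rintro x y ⟨r, hr⟩ hxy
    omega
  have hc1 : 1 ≤ k := by omega
  have hk44 : 1 ≤ k ^ 4 := Nat.one_le_pow _ _ hc1
  have h4o : Odd (64 * k ^ 4 + 1) := ⟨32 * k ^ 4, by ring⟩
  refine five_of (c₁ := 64 * k ^ 4) (c₂ := t * (2 * k)) (c₃ := 64 * k ^ 4 + 1) (c₄ := t * a) M
    ((hdeg _).2 (by tauto)) ((hdeg _).2 (by tauto)) ((hdeg _).2 (by tauto)) ((hdeg _).2 (by tauto))
    (by omega) ?_ (by omega) ?_ ?_ ?_ ?_ ?_ ?_ ?_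
  · intro h1
    have h2 := Nat.eq_one_of_mul_eq_one_left h1
    omega
  · intro h1
    have h2 := Nat.eq_one_of_mul_eq_one_left h1
    have h3 : 1 < a := by omega
    omega
  · intro s r hs hr h1
    have h2 : (2 * k) * (2 * (16 * k ^ 3 * s)) = (2 * k) * (t * r) := by
      calc (2 * k) * (2 * (16 * k ^ 3 * s)) = 64 * k ^ 4 * s := by ring
        _ = t * (2 * k) * r := h1
        _ = (2 * k) * (t * r) := by ring
    have h3 := Nat.eq_of_mul_eq_mul_left (by omega) h2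
    exact hev _ _ (hto.mul (hodd r hr)) h3
  · intro s r hs hr h1
    refine hev (32 * k ^ 4 * s) _ (h4o.mul (hodd r hr)) ?_
    rw [← h1]
    ring
  · intro s r hs hr h1
    refine hev (32 * k ^ 4 * s) _ ((hto.mul hao).mul (hodd r hr)) ?_
    rw [← h1]
    ring
  · intro s r hs hr h1
    refine hev (t * k * s) _ (h4o.mul (hodd r hr)) ?_
    rw [← h1]
    ring
  · intro s r hs hr h1
    refine hev (t * k * s) _ ((hto.mul hao).mul (hodd r hr)) ?_
    rw [← h1]
    ring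
  · intro s r hs hr h1
    have h2 : t ∣ (64 * k ^ 4 + 1) * s := by
      rw [h1]
      exact ⟨a * r, by ring⟩
    have h3 : 64 * k ^ 4 = t * (t + 2) + 1 := by
      calc 64 * k ^ 4 = (8 * k ^ 2) ^ 2 := by ring
        _ = (t + 1) ^ 2 := by rw [ht]
        _ = _ := by ring
    have h4 : (64 * k ^ 4 + 1) * s = t * ((t + 2) * s) + 2 * s := by rw [h3]; ring
    rw [h4] at h2
    have h5 : t ∣ 2 * s := (Nat.dvd_add_right (dvd_mul_right _ _)).1 h2
    have h6 : Nat.Coprime t 2 := Nat.Coprime.symm (Nat.coprime_two_left.2 hto)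
    have h7 : t ∣ s := h6.dvd_of_dvd_mul_left h5
    have h8 := Nat.le_of_dvd (hodd s hs).pos h7
    have h9 := hle s hs
    omega

end Cfsg.Agent.H740.FiveSz
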