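import Mathlib
import Cfsg.Prelude.Def_RootSubgroups
set_option linter.all false

-- part: H740/Unip
section
/-!
# Unipotent linear groups; the linear version of the Baer–Suzuki theorem

`augSpan H` is the span of all `h - 1`, `h ∈ H`. `H` acts unipotently iff `augSpan H` is nilpotent.
-/

set_option autoImplicit false

namespace Cfsg.Agent.H740

open Cfsg

section Unip

variable {k : Type*} [Field k] {M : Type*} [AddCommGroup M] [Module k M]

/-- The span of all `h - 1`, `h ∈ H`. -/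
def augSpan (H : Subgroup (LinearMap.GeneralLinearGroup k M)) : Submodule k (M →ₗ[k] M) :=
  Submodule.span k {x | ∃ h ∈ H, x = (h : M →ₗ[k] M) - 1}

lemma sub_one_mem_augSpan {H : Subgroup (LinearMap.GeneralLinearGroup k M)}
    {h : LinearMap.GeneralLinearGroup k M} (hh : h ∈ H) : (h : M →ₗ[k] M) - 1 ∈ augSpan H :=
  Submodule.subset_span ⟨h, hh, rfl⟩

lemma augSpan_mono {H K : Subgroup (LinearMap.GeneralLinearGroup k M)} (hHK : H ≤ K) :
    augSpan H ≤ augSpan K := by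
  apply Submodule.span_mono
  rintro x ⟨h, hh, rfl⟩
  exact ⟨h, hHK hh, rfl⟩

lemma augSpan_mul_le (H : Subgroup (LinearMap.GeneralLinearGroup k M)) :
    augSpan H * augSpan H ≤ augSpan H := by
  rw [augSpan, Submodule.span_mul_span, Submodule.span_le]
  rintro _ ⟨_, ⟨g, hg, rfl⟩, _, ⟨h, hh, rfl⟩, rfl⟩
  have : ((g : M →ₗ[k] M) - 1) * ((h : M →ₗ[k] M) - 1) =
      (((g * h : LinearMap.GeneralLinearGroup k M) : M →ₗ[k] M) - 1) -
        ((g : M →ₗ[k] M) - 1) - ((h : M →ₗ[k] M) - 1) := by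
    rw [sub_mul, mul_sub, mul_one, one_mul, Units.val_mul]; abel
  show ((g : M →ₗ[k] M) - 1) * ((h : M →ₗ[k] M) - 1) ∈ augSpan H
  rw [this]
  exact sub_mem (sub_mem (sub_one_mem_augSpan (H.mul_mem hg hh)) (sub_one_mem_augSpan hg))
    (sub_one_mem_augSpan hh)

lemma pow_succ_le_of_mul_le {J : Submodule k (M →ₗ[k] M)} (hJ : J * J ≤ J) {n : ℕ} (hn : 1 ≤ n) :
    J ^ (n + 1) ≤ J ^ n := by
  induction n, hn using Nat.le_induction with
  | base => rw [pow_succ, pow_one]; exact hJ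
  | succ n hn ih =>
    rw [pow_succ, pow_succ (n := n)]
    exact mul_le_mul' ih le_rfl

lemma pow_le_pow_of_mul_le {J : Submodule k (M →ₗ[k] M)} (hJ : J * J ≤ J) {m n : ℕ} (hm : 1 ≤ m)
    (hmn : m ≤ n) : J ^ n ≤ J ^ m := by
  induction n, hmn using Nat.le_induction with
  | base => exact le_rfl
  | succ n hn ih => exact (pow_succ_le_of_mul_le hJ (hm.trans hn)).trans ih

lemma map_sub_one_prod (l : List (LinearMap.GeneralLinearGroup k M)) :
    (l.map fun g => (g : M →ₗ[k] M) - 1).prod =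
      (List.map (fun g : LinearMap.GeneralLinearGroup k M => (g : M →ₗ[k] M) - 1) l).prod := by
  congr 1
  induction l with
  | nil => rfl
  | cons a l ih => 
    rw [List.map_cons, ← ih]
    rfl

theorem isUnipotentOn_iff (H : Subgroup (LinearMap.GeneralLinearGroup k M)) :
    IsUnipotentOn H ↔ IsNilpotent (augSpan H) := by
  constructor
  · rintro ⟨n, hn⟩
    refine ⟨n, ?_⟩
    rw [augSpan, Submodule.span_pow, Submodule.zero_eq_bot, Submodule.span_eq_bot]
    intro x hx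
    rw [Set.mem_pow] at hx
    obtain ⟨f, rfl⟩ := hx
    choose g hg hgx using fun i => (f i).2
    have := hn (List.ofFn g) (by
      intro y hy
      rw [List.mem_ofFn] at hy
      obtain ⟨i, rfl⟩ := hy
      exact hg i) (by simp)
    rw [map_sub_one_prod, List.map_ofFn] at this
    rw [← this]
    congr 2
    funext i
    exact hgx i
  · rintro ⟨n, hn⟩
    refine ⟨n, fun l hl hlen => ?_⟩
    have : ∀ l : List (LinearMap.GeneralLinearGroup k M), (∀ g ∈ l, g ∈ H) →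
        (l.map fun g => (g : M →ₗ[k] M) - 1).prod ∈ augSpan H ^ l.length := by
      intro l
      induction l with
      | nil => intro _; simpa using Submodule.mem_one.2 ⟨1, by simp⟩
      | cons a l ih =>
        intro hl
        rw [map_sub_one_prod, List.map_cons, List.prod_cons, List.length_cons, pow_succ',
          ← map_sub_one_prod]
        exact Submodule.mul_mem_mul (sub_one_mem_augSpan (hl a (by simp)))
          (ih fun g hg => hl g (by simp [hg]))
    have h1 := this l hl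
    rw [hlen, hn] at h1
    simpa using h1

lemma isUnipotentOn_mono {H K : Subgroup (LinearMap.GeneralLinearGroup k M)} (hHK : H ≤ K)
    (hK : IsUnipotentOn K) : IsUnipotentOn H := by
  obtain ⟨n, hn⟩ := hK
  exact ⟨n, fun l hl hlen => hn l (fun g hg => hHK (hl g hg)) hlen⟩

lemma isUnipotentOn_bot : IsUnipotentOn (⊥ : Subgroup (LinearMap.GeneralLinearGroup k M)) := by
  refine ⟨1, fun l hl hlen => ?_⟩
  obtain ⟨a, rfl⟩ := List.length_eq_one_iff.1 hlen
  have : a = 1 := Subgroup.mem_bot.1 (hl a (by simp))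
  simp [this]

lemma nilpotent_of_le {I J : Submodule k (M →ₗ[k] M)} (hIJ : I ≤ J) (hJ : IsNilpotent J) :
    IsNilpotent I := by
  obtain ⟨n, hn⟩ := hJ
  refine ⟨n, ?_⟩
  rw [Submodule.zero_eq_bot, eq_bot_iff, ← Submodule.zero_eq_bot, ← hn]
  exact Submodule.pow_mono' hIJ n
where
  Submodule.pow_mono' {I J : Submodule k (M →ₗ[k] M)} (h : I ≤ J) : ∀ n : ℕ, I ^ n ≤ J ^ n
    | 0 => by simp
    | n + 1 => by rw [pow_succ, pow_succ]; exact mul_le_mul' (Submodule.pow_mono' h n) h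

lemma pow_mono_sub {I J : Submodule k (M →ₗ[k] M)} (h : I ≤ J) (n : ℕ) : I ^ n ≤ J ^ n :=
  nilpotent_of_le.Submodule.pow_mono' h n

/-! ### Products -/

/-- The span of all elements of `H`. -/
def fullSpan (H : Subgroup (LinearMap.GeneralLinearGroup k M)) : Submodule k (M →ₗ[k] M) :=
  Submodule.span k {x | ∃ h ∈ H, x = (h : M →ₗ[k] M)}

lemma mem_fullSpan {H : Subgroup (LinearMap.GeneralLinearGroup k M)}
    {h : LinearMap.GeneralLinearGroup k M} (hh : h ∈ H) : (h : M →ₗ[k] M) ∈ fullSpan H :=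
  Submodule.subset_span ⟨h, hh, rfl⟩

lemma fullSpan_mul_le (H : Subgroup (LinearMap.GeneralLinearGroup k M)) :
    fullSpan H * fullSpan H ≤ fullSpan H := by
  rw [fullSpan, Submodule.span_mul_span, Submodule.span_le]
  rintro _ ⟨_, ⟨g, hg, rfl⟩, _, ⟨h, hh, rfl⟩, rfl⟩
  exact mem_fullSpan (H.mul_mem hg hh)

lemma augSpan_le_fullSpan (H : Subgroup (LinearMap.GeneralLinearGroup k M)) :
    augSpan H ≤ fullSpan H := by
  rw [augSpan, Submodule.span_le]
  rintro _ ⟨h, hh, rfl⟩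
  exact sub_mem (mem_fullSpan hh) (mem_fullSpan H.one_mem)

lemma one_mem_fullSpan (H : Subgroup (LinearMap.GeneralLinearGroup k M)) :
    (1 : M →ₗ[k] M) ∈ fullSpan H := mem_fullSpan H.one_mem

/-- If `H` normalises `D` and both act unipotently, then so does `D ⊔ H`. -/
theorem isUnipotentOn_sup {D H : Subgroup (LinearMap.GeneralLinearGroup k M)}
    (hD : IsUnipotentOn D) (hH : IsUnipotentOn H)
    (hn : ∀ h ∈ H, ∀ d ∈ D, h * d * h⁻¹ ∈ D) : IsUnipotentOn (D ⊔ H) := by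
  rw [isUnipotentOn_iff] at hD hH ⊢
  set JD := augSpan D with hJD
  set JH := augSpan H with hJH
  set E := fullSpan H with hE
  set I := JD * E with hI
  have hEE : E * E ≤ E := fullSpan_mul_le H
  have hJHE : JH ≤ E := augSpan_le_fullSpan H
  have h1E : (1 : Submodule k (M →ₗ[k] M)) ≤ E := by
    rw [Submodule.one_le]; exact one_mem_fullSpan H
  -- `E * JD ≤ JD * E`
  have hcomm : E * JD ≤ JD * E := by
    rw [hE, hJD, fullSpan, augSpan, Submodule.span_mul_span, Submodule.span_le]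
    rintro _ ⟨_, ⟨h, hh, rfl⟩, _, ⟨d, hd, rfl⟩, rfl⟩
    have e : (h : M →ₗ[k] M) * ((d : M →ₗ[k] M) - 1) =
        (((h * d * h⁻¹ : LinearMap.GeneralLinearGroup k M) : M →ₗ[k] M) - 1) *
          (h : M →ₗ[k] M) := by
      rw [sub_mul, ← Units.val_mul, mul_sub, ← Units.val_mul, inv_mul_cancel_right, mul_one,
        one_mul]
    show (h : M →ₗ[k] M) * ((d : M →ₗ[k] M) - 1) ∈ augSpan D * fullSpan H
    rw [e]
    exact Submodule.mul_mem_mul (sub_one_mem_augSpan (hn h hh d hd)) (mem_fullSpan hh)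
  have hEI : E * I ≤ I := by
    rw [hI, ← mul_assoc]
    calc E * JD * E ≤ JD * E * E := mul_le_mul' hcomm le_rfl
      _ = JD * (E * E) := by rw [mul_assoc]
      _ ≤ JD * E := mul_le_mul' le_rfl hEE
  have hIE : I * E ≤ I := by
    rw [hI, mul_assoc]; exact mul_le_mul' le_rfl hEE
  have hII : I * I ≤ I := by
    calc I * I = JD * (E * I) := by rw [hI, mul_assoc]
      _ ≤ JD * I := mul_le_mul' le_rfl hEI
      _ = JD * JD * E := by rw [hI, ← mul_assoc]
      _ ≤ JD * E := mul_le_mul' (augSpan_mul_le D) le_rfl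
  -- powers of `I`
  have hIpow : ∀ n : ℕ, I ^ n ≤ JD ^ n * E := by
    intro n
    induction n with
    | zero => rw [pow_zero, pow_zero, one_mul]; exact h1E
    | succ n ih =>
      calc I ^ (n + 1) = I ^ n * I := pow_succ _ _
        _ ≤ JD ^ n * E * I := mul_le_mul' ih le_rfl
        _ = JD ^ n * (E * I) := by rw [mul_assoc]
        _ ≤ JD ^ n * I := mul_le_mul' le_rfl hEI
        _ = JD ^ (n + 1) * E := by rw [hI, ← mul_assoc, ← pow_succ]
  have hsum : ∀ m : ℕ, (JH + I) ^ m ≤ JH ^ m + I := by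
    intro m
    induction m with
    | zero => rw [pow_zero, pow_zero, Submodule.add_eq_sup]; exact le_sup_left
    | succ m ih =>
      have hJHm : JH ^ m ≤ E := by
        clear ih
        induction m with
        | zero => rw [pow_zero]; exact h1E
        | succ m ihm =>
          rw [pow_succ]
          exact (mul_le_mul' ihm hJHE).trans hEE
      calc (JH + I) ^ (m + 1) = (JH + I) ^ m * (JH + I) := pow_succ _ _
        _ ≤ (JH ^ m + I) * (JH + I) := mul_le_mul' ih le_rfl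
        _ = JH ^ m * JH + I * JH + (JH ^ m * I + I * I) := by
            rw [add_mul, mul_add, mul_add]; abel
        _ ≤ JH ^ (m + 1) + I := by
            rw [Submodule.add_eq_sup, Submodule.add_eq_sup, Submodule.add_eq_sup,
              Submodule.add_eq_sup]
            refine sup_le (sup_le ?_ ?_) (sup_le ?_ ?_)
            · rw [← pow_succ]; exact le_sup_left
            · exact ((mul_le_mul' le_rfl hJHE).trans hIE).trans le_sup_right
            · exact ((mul_le_mul' hJHm le_rfl).trans hEI).trans le_sup_right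
            · exact hII.trans le_sup_right
  -- the augmentation span of the product
  have hle : augSpan (D ⊔ H) ≤ JH + I := by
    rw [augSpan, Submodule.span_le]
    rintro _ ⟨g, hg, rfl⟩
    have hgen : ∃ d ∈ D, ∃ h ∈ H, g = d * h := by
      have hmul : ∀ x y : LinearMap.GeneralLinearGroup k M,
          (∃ d ∈ D, ∃ h ∈ H, x = d * h) → (∃ d ∈ D, ∃ h ∈ H, y = d * h) →
          ∃ d ∈ D, ∃ h ∈ H, x * y = d * h := by
        rintro _ _ ⟨d, hd, h, hh, rfl⟩ ⟨d', hd', h', hh', rfl⟩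
        refine ⟨d * (h * d' * h⁻¹), D.mul_mem hd (hn h hh d' hd'), h * h', H.mul_mem hh hh', ?_⟩
        group
      rw [sup_eq_iSup] at hg
      refine Subgroup.iSup_induction _ (C := fun g => ∃ d ∈ D, ∃ h ∈ H, g = d * h) hg ?_ ?_ hmul
      · rintro (_ | _) x hx
        · exact ⟨1, D.one_mem, x, hx, by simp⟩
        · exact ⟨x, hx, 1, H.one_mem, by simp⟩
      · exact ⟨1, D.one_mem, 1, H.one_mem, by simp⟩
    obtain ⟨d, hd, h, hh, rfl⟩ := hgen
    have e : ((d * h : LinearMap.GeneralLinearGroup k M) : M →ₗ[k] M) - 1 =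
        ((h : M →ₗ[k] M) - 1) + ((d : M →ₗ[k] M) - 1) * (h : M →ₗ[k] M) := by
      rw [sub_mul, one_mul, Units.val_mul]; abel
    show ((d * h : LinearMap.GeneralLinearGroup k M) : M →ₗ[k] M) - 1 ∈ JH + I
    rw [e]
    exact Submodule.add_mem_sup (sub_one_mem_augSpan hh)
      (Submodule.mul_mem_mul (sub_one_mem_augSpan hd) (mem_fullSpan hh))
  refine nilpotent_of_le hle ?_
  obtain ⟨m, hm⟩ := hH
  obtain ⟨n, hn'⟩ := hD
  refine ⟨m * n, ?_⟩
  rw [pow_mul]
  have h1 : (JH + I) ^ m ≤ I := by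
    refine (hsum m).trans ?_
    rw [hm, zero_add]
  have h2 : ((JH + I) ^ m) ^ n ≤ JD ^ n * E := (pow_mono_sub h1 n).trans (hIpow n)
  rw [hn', zero_mul, Submodule.zero_eq_bot, le_bot_iff] at h2
  rw [h2, Submodule.zero_eq_bot]

/-! ### The filtration of a unipotent group -/

/-- `filt H j` = elements `u` of `H` with `u - 1 ∈ (augSpan H) ^ j`. -/
def filt (H : Subgroup (LinearMap.GeneralLinearGroup k M)) (j : ℕ) (hj : 1 ≤ j) :
    Subgroup (LinearMap.GeneralLinearGroup k M) where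
  carrier := {u | u ∈ H ∧ (u : M →ₗ[k] M) - 1 ∈ augSpan H ^ j}
  one_mem' := ⟨H.one_mem, by simp⟩
  mul_mem' := by
    rintro a b ⟨ha, ha'⟩ ⟨hb, hb'⟩
    refine ⟨H.mul_mem ha hb, ?_⟩
    have e : ((a * b : LinearMap.GeneralLinearGroup k M) : M →ₗ[k] M) - 1 =
        ((a : M →ₗ[k] M) - 1) * ((b : M →ₗ[k] M) - 1) + ((a : M →ₗ[k] M) - 1) +
          ((b : M →ₗ[k] M) - 1) := by
      rw [sub_mul, mul_sub, mul_one, one_mul, Units.val_mul]; abel
    rw [e]
    refine add_mem (add_mem ?_ ha') hb'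
    refine pow_succ_le_of_mul_le (augSpan_mul_le H) hj ?_
    rw [pow_succ]
    exact Submodule.mul_mem_mul ha' (sub_one_mem_augSpan hb)
  inv_mem' := by
    rintro a ⟨ha, ha'⟩
    refine ⟨H.inv_mem ha, ?_⟩
    have e : ((a⁻¹ : LinearMap.GeneralLinearGroup k M) : M →ₗ[k] M) - 1 =
        -(((a : M →ₗ[k] M) - 1) * (((a⁻¹ : LinearMap.GeneralLinearGroup k M) : M →ₗ[k] M) - 1)) -
          ((a : M →ₗ[k] M) - 1) := by
      rw [sub_mul, mul_sub, mul_one, one_mul, Units.mul_inv]; abel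
    rw [e]
    refine sub_mem (neg_mem ?_) ha'
    refine pow_succ_le_of_mul_le (augSpan_mul_le H) hj ?_
    rw [pow_succ]
    exact Submodule.mul_mem_mul ha' (sub_one_mem_augSpan (H.inv_mem ha))

lemma filt_le (H : Subgroup (LinearMap.GeneralLinearGroup k M)) (j : ℕ) (hj : 1 ≤ j) :
    filt H j hj ≤ H := fun _ hu => hu.1

lemma filt_one (H : Subgroup (LinearMap.GeneralLinearGroup k M)) : filt H 1 le_rfl = H := by
  refine le_antisymm (filt_le H 1 le_rfl) fun u hu => ⟨hu, ?_⟩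
  rw [pow_one]; exact sub_one_mem_augSpan hu

/-- `[filt H j, H] ≤ filt H (j+1)`. -/
lemma filt_comm {H : Subgroup (LinearMap.GeneralLinearGroup k M)} {j : ℕ} {hj : 1 ≤ j}
    {u v : LinearMap.GeneralLinearGroup k M} (hu : u ∈ filt H j hj) (hv : v ∈ H) :
    u * v * u⁻¹ * v⁻¹ ∈ filt H (j + 1) (by omega) := by
  obtain ⟨huH, hu'⟩ := hu
  refine ⟨H.mul_mem (H.mul_mem (H.mul_mem huH hv) (H.inv_mem huH)) (H.inv_mem hv), ?_⟩
  have hpow : ∀ x ∈ augSpan H ^ (j + 1), ∀ w ∈ H,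
      x * (w : M →ₗ[k] M) ∈ augSpan H ^ (j + 1) := by
    intro x hx w hw
    have : x * (w : M →ₗ[k] M) = x * ((w : M →ₗ[k] M) - 1) + x := by
      rw [mul_sub, mul_one]; abel
    rw [this]
    refine add_mem ?_ hx
    refine pow_succ_le_of_mul_le (augSpan_mul_le H) (by omega) ?_
    rw [pow_succ (n := j + 1)]
    exact Submodule.mul_mem_mul hx (sub_one_mem_augSpan hw)
  have e : ((u * v * u⁻¹ * v⁻¹ : LinearMap.GeneralLinearGroup k M) : M →ₗ[k] M) - 1 =
      (((u : M →ₗ[k] M) - 1) * ((v : M →ₗ[k] M) - 1) -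
        ((v : M →ₗ[k] M) - 1) * ((u : M →ₗ[k] M) - 1)) *
        ((u⁻¹ * v⁻¹ : LinearMap.GeneralLinearGroup k M) : M →ₗ[k] M) := by
    have h1 : ((u : M →ₗ[k] M) - 1) * ((v : M →ₗ[k] M) - 1) -
        ((v : M →ₗ[k] M) - 1) * ((u : M →ₗ[k] M) - 1) =
        ((u * v : LinearMap.GeneralLinearGroup k M) : M →ₗ[k] M) -
          ((v * u : LinearMap.GeneralLinearGroup k M) : M →ₗ[k] M) := by
      simp only [sub_mul, mul_sub, mul_one, one_mul, Units.val_mul]; abel
    rw [h1, sub_mul, ← Units.val_mul, ← Units.val_mul]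
    have h2 : v * u * (u⁻¹ * v⁻¹) = 1 := by group
    have h3 : u * v * (u⁻¹ * v⁻¹) = u * v * u⁻¹ * v⁻¹ := by group
    rw [h2, h3, Units.val_one]
  rw [e]
  refine hpow _ (sub_mem ?_ ?_) _ (H.mul_mem (H.inv_mem huH) (H.inv_mem hv))
  · rw [pow_succ]; exact Submodule.mul_mem_mul hu' (sub_one_mem_augSpan hv)
  · rw [pow_succ']; exact Submodule.mul_mem_mul (sub_one_mem_augSpan hv) hu'

lemma filt_antitone {H : Subgroup (LinearMap.GeneralLinearGroup k M)} {i j : ℕ} {hi : 1 ≤ i}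
    {hj : 1 ≤ j} (hij : i ≤ j) : filt H j hj ≤ filt H i hi := fun _ hu =>
  ⟨hu.1, pow_le_pow_of_mul_le (augSpan_mul_le H) hi hij hu.2⟩

/-- **Normaliser induction in a unipotent group.** If `P D` holds and `P H` fails (`D ≤ H`, `H`
unipotent) then there are `D ≤ E ≤ E' ≤ H` with `E'` normalising `E`, `P E` and `¬ P E'`. -/
theorem exists_step {D H : Subgroup (LinearMap.GeneralLinearGroup k M)} (hDH : D ≤ H)
    (hH : IsUnipotentOn H) (P : Subgroup (LinearMap.GeneralLinearGroup k M) → Prop) (hPD : P D)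
    (hPH : ¬ P H) : ∃ E E' : Subgroup (LinearMap.GeneralLinearGroup k M), D ≤ E ∧ E ≤ E' ∧
      E' ≤ H ∧ (∀ a ∈ E', ∀ x ∈ E, a * x * a⁻¹ ∈ E) ∧ P E ∧ ¬ P E' := by
  rw [isUnipotentOn_iff] at hH
  obtain ⟨n, hn⟩ := hH
  -- `E i = D ⊔ filt H (i+1)`
  set E : ℕ → Subgroup (LinearMap.GeneralLinearGroup k M) :=
    fun i => D ⊔ filt H (i + 1) (by omega) with hE
  have hE0 : E 0 = H := by
    show D ⊔ filt H 1 le_rfl = H
    rw [filt_one]; exact sup_eq_right.2 hDH
  have hEn : E n = D := by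
    show D ⊔ filt H (n + 1) (by omega) = D
    have : filt H (n + 1) (by omega) = ⊥ := by
      rw [eq_bot_iff]
      rintro u ⟨_, hu⟩
      rw [pow_succ, hn, zero_mul] at hu
      rw [Subgroup.mem_bot]
      apply Units.ext
      rw [Units.val_one]
      exact sub_eq_zero.1 (by simpa using hu)
    rw [this, sup_bot_eq]
  have hPn : P (E n) := by rw [hEn]; exact hPD
  have hP0 : ¬ P (E 0) := by rw [hE0]; exact hPH
  classical
  have hex : ∃ i, P (E i) := ⟨n, hPn⟩
  set i := Nat.find hex with hi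
  have hi0 : i ≠ 0 := by
    intro h0
    apply hP0
    have := Nat.find_spec hex
    rw [← hi, h0] at this
    exact this
  obtain ⟨j, hj⟩ := Nat.exists_eq_succ_of_ne_zero hi0
  refine ⟨E (j + 1), E j, le_sup_left, ?_, ?_, ?_, ?_, ?_⟩
  · exact sup_le_sup_left (filt_antitone (by omega)) _
  · exact sup_le hDH (filt_le _ _ _)
  · -- normalisation
    have hEH : E (j + 1) ≤ H := sup_le hDH (filt_le _ _ _)
    have key : ∀ a ∈ filt H (j + 1) (by omega), ∀ x ∈ E (j + 1), a * x * a⁻¹ ∈ E (j + 1) := by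
      intro a ha x hx
      have h1 := filt_comm ha (hEH hx)
      have : a * x * a⁻¹ = a * x * a⁻¹ * x⁻¹ * x := by group
      rw [this]
      exact Subgroup.mul_mem _ (le_sup_right (a := D) h1) hx
    have hle : E j ≤ Subgroup.normalizer (E (j + 1) : Set (LinearMap.GeneralLinearGroup k M)) := by
      refine sup_le ?_ ?_
      · exact (le_sup_left (a := D)).trans Subgroup.le_normalizer
      · intro a ha
        rw [Subgroup.mem_normalizer_iff]
        intro x
        constructor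
        · intro hx; exact key a ha x hx
        · intro hx
          have := key a⁻¹ (Subgroup.inv_mem _ ha) _ hx
          have e : a⁻¹ * (a * x * a⁻¹) * a⁻¹⁻¹ = x := by group
          rwa [e] at this
    intro a ha x hx
    exact ((Subgroup.mem_normalizer_iff.1 (hle ha)) x).1 hx
  · have := Nat.find_spec hex
    rw [← hi, hj] at this
    exact this
  · exact Nat.find_min hex (by rw [← hi, hj]; exact Nat.lt_succ_self j)

end Unip

end Cfsg.Agent.H740
end

-- part: H740/BaerSuzuki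
section
/-!
# The linear Baer–Suzuki theorem

`isUnipotentOn_iSup`: a set `W` of subgroups of `G ≤ GL(M)`, invariant under conjugation by `G`,
any two members of which generate a unipotent group, generates a unipotent group.
-/

set_option autoImplicit false

namespace Cfsg.Agent.H740

open Cfsg

section BS

variable {k : Type*} [Field k] {M : Type*} [AddCommGroup M] [Module k M]

/-- The subgroup generated by the members of `S`. -/
def sp (S : Set (Subgroup (LinearMap.GeneralLinearGroup k M))) :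
    Subgroup (LinearMap.GeneralLinearGroup k M) := ⨆ A ∈ S, A

lemma le_sp {S : Set (Subgroup (LinearMap.GeneralLinearGroup k M))}
    {A : Subgroup (LinearMap.GeneralLinearGroup k M)} (hA : A ∈ S) : A ≤ sp S :=
  le_iSup₂_of_le A hA le_rfl

lemma sp_le {S : Set (Subgroup (LinearMap.GeneralLinearGroup k M))}
    {K : Subgroup (LinearMap.GeneralLinearGroup k M)} (h : ∀ A ∈ S, A ≤ K) : sp S ≤ K :=
  iSup₂_le h

lemma sp_mono {S T : Set (Subgroup (LinearMap.GeneralLinearGroup k M))} (h : S ⊆ T) :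
    sp S ≤ sp T := sp_le fun _ hA => le_sp (h hA)

lemma augSpan_sp_le {S : Set (Subgroup (LinearMap.GeneralLinearGroup k M))}
    {J : Submodule k (M →ₗ[k] M)} (hJ : J * J ≤ J)
    (h : ∀ A ∈ S, ∀ a ∈ A, (a : M →ₗ[k] M) - 1 ∈ J) : augSpan (sp S) ≤ J := by
  rw [augSpan, Submodule.span_le]
  rintro _ ⟨g, hg, rfl⟩
  rw [sp, iSup_subtype'] at hg
  refine Subgroup.iSup_induction _
    (C := fun g : LinearMap.GeneralLinearGroup k M => (g : M →ₗ[k] M) - 1 ∈ J) hg ?_ ?_ ?_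
  · rintro ⟨A, hA⟩ a ha
    exact h A hA a ha
  · simp
  · intro a b ha hb
    have e : ((a * b : LinearMap.GeneralLinearGroup k M) : M →ₗ[k] M) - 1 =
        ((a : M →ₗ[k] M) - 1) * ((b : M →ₗ[k] M) - 1) + ((a : M →ₗ[k] M) - 1) +
          ((b : M →ₗ[k] M) - 1) := by
      rw [sub_mul, mul_sub, mul_one, one_mul, Units.val_mul]; abel
    rw [e]
    exact add_mem (add_mem (hJ (Submodule.mul_mem_mul ha hb)) ha) hb

variable (W : Set (Subgroup (LinearMap.GeneralLinearGroup k M)))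

/-- `S` is a subset of `W` generating a unipotent group. -/
def Good (S : Set (Subgroup (LinearMap.GeneralLinearGroup k M))) : Prop :=
  S ⊆ W ∧ IsUnipotentOn (sp S)

/-- Maximal good sets. -/
def Maxi (S : Set (Subgroup (LinearMap.GeneralLinearGroup k M))) : Prop :=
  Good W S ∧ ∀ T, Good W T → S ⊆ T → T ⊆ S

variable {W}

lemma Good.mono {S T : Set (Subgroup (LinearMap.GeneralLinearGroup k M))} (hT : Good W T)
    (h : S ⊆ T) : Good W S :=
  ⟨h.trans hT.1, isUnipotentOn_mono (sp_mono h) hT.2⟩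

lemma Good.closed {S : Set (Subgroup (LinearMap.GeneralLinearGroup k M))} (hS : Good W S) :
    Good W {A | A ∈ W ∧ ∀ a ∈ A, (a : M →ₗ[k] M) - 1 ∈ augSpan (sp S)} := by
  refine ⟨fun A hA => hA.1, ?_⟩
  have h1 := hS.2
  rw [isUnipotentOn_iff] at h1 ⊢
  exact nilpotent_of_le (augSpan_sp_le (augSpan_mul_le _) fun A hA => hA.2) h1

lemma Maxi.mem {S : Set (Subgroup (LinearMap.GeneralLinearGroup k M))} (hS : Maxi W S)
    {A : Subgroup (LinearMap.GeneralLinearGroup k M)} (hA : A ∈ W)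
    (h : ∀ a ∈ A, (a : M →ₗ[k] M) - 1 ∈ augSpan (sp S)) : A ∈ S := by
  refine hS.2 _ hS.1.closed ?_ ⟨hA, h⟩
  intro B hB
  exact ⟨hS.1.1 hB, fun b hb => sub_one_mem_augSpan (le_sp hB hb)⟩

lemma Maxi.mem_of_le {S : Set (Subgroup (LinearMap.GeneralLinearGroup k M))} (hS : Maxi W S)
    {A : Subgroup (LinearMap.GeneralLinearGroup k M)} (hA : A ∈ W) (h : A ≤ sp S) : A ∈ S :=
  hS.mem hA fun _ ha => sub_one_mem_augSpan (h ha)

variable [FiniteDimensional k M]

lemma exists_maxi {S : Set (Subgroup (LinearMap.GeneralLinearGroup k M))} (hS : Good W S) :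
    ∃ T, S ⊆ T ∧ Maxi W T := by
  set N : Set ℕ := {n | ∃ T, Good W T ∧ S ⊆ T ∧
    Module.finrank k (augSpan (sp T)) = n} with hN
  have hne : N.Nonempty := ⟨_, S, hS, le_rfl, rfl⟩
  have hbdd : BddAbove N := by
    refine ⟨Module.finrank k (M →ₗ[k] M), ?_⟩
    rintro _ ⟨T, _, _, rfl⟩
    exact Submodule.finrank_le _
  obtain ⟨T, hT, hST, hTn⟩ := Nat.sSup_mem hne hbdd
  refine ⟨_, ?_, hT.closed, ?_⟩
  · intro A hA
    exact ⟨hS.1 hA, fun a ha => sub_one_mem_augSpan (le_sp (hST hA) ha)⟩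
  · intro T' hT' hsub A hA
    refine ⟨hT'.1 hA, fun a ha => ?_⟩
    have hTT' : T ⊆ T' := fun B hB =>
      hsub ⟨hT.1 hB, fun b hb => sub_one_mem_augSpan (le_sp hB hb)⟩
    have h1 : augSpan (sp T) ≤ augSpan (sp T') := augSpan_mono (sp_mono hTT')
    have h2 : Module.finrank k (augSpan (sp T')) ≤ Module.finrank k (augSpan (sp T)) := by
      rw [hTn]
      exact le_csSup hbdd ⟨T', hT', hST.trans hTT', rfl⟩
    rw [Submodule.eq_of_le_of_finrank_le h1 h2]
    exact sub_one_mem_augSpan (le_sp hA ha)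

omit [FiniteDimensional k M] in
/-- The key step: in a maximal good set `S₁`, a proper "intersection" `S₁ ∩ S₂` is normalised by a
member of `S₁` outside. -/
lemma exists_normalizing {G : Subgroup (LinearMap.GeneralLinearGroup k M)}
    (hWG : ∀ A ∈ W, A ≤ G) (hWconj : ∀ A ∈ W, ∀ g ∈ G, conjBy A g ∈ W)
    {S₁ S₂ : Set (Subgroup (LinearMap.GeneralLinearGroup k M))} (h1 : Maxi W S₁)
    (h2 : Maxi W S₂) (hne : S₁ ≠ S₂) : ∃ A ∈ S₁, A ∉ S₂ ∧
      ∀ a ∈ A, ∀ x ∈ sp (S₁ ∩ S₂), a * x * a⁻¹ ∈ sp (S₁ ∩ S₂) := by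
  have hD1 : sp (S₁ ∩ S₂) ≤ sp S₁ := sp_mono Set.inter_subset_left
  have hD2 : sp (S₁ ∩ S₂) ≤ sp S₂ := sp_mono Set.inter_subset_right
  have hPD : ∀ A ∈ W, A ≤ sp (S₁ ∩ S₂) → A ∈ S₁ ∩ S₂ := fun A hA hle =>
    ⟨h1.mem_of_le hA (hle.trans hD1), h2.mem_of_le hA (hle.trans hD2)⟩
  have hPH : ¬ ∀ A ∈ W, A ≤ sp S₁ → A ∈ S₁ ∩ S₂ := by
    intro hP
    apply hne
    have : S₁ ⊆ S₂ := fun A hA => (hP A (h1.1.1 hA) (le_sp hA)).2
    exact Set.Subset.antisymm this (h1.2 _ h2.1 this)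
  obtain ⟨E, E', hDE, hEE', hE'H, hnorm, hPE, hPE'⟩ :=
    exists_step hD1 h1.1.2 (fun E => ∀ A ∈ W, A ≤ E → A ∈ S₁ ∩ S₂) hPD hPH
  push Not at hPE'
  obtain ⟨A, hA, hAE', hAD⟩ := hPE'
  have hAS : A ∈ S₁ := h1.mem_of_le hA (hAE'.trans hE'H)
  refine ⟨A, hAS, fun h => hAD ⟨hAS, h⟩, ?_⟩
  intro a ha x hx
  have hle : (sp (S₁ ∩ S₂)).map (MulAut.conj a).toMonoidHom ≤ sp (S₁ ∩ S₂) := by
    rw [sp, Subgroup.map_iSup]
    refine iSup_le fun B => ?_
    rw [Subgroup.map_iSup]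
    refine iSup_le fun hB => ?_
    refine le_sp (S := S₁ ∩ S₂) (hPE (conjBy B a) (hWconj B (h1.1.1 hB.1) a (hWG A hA ha)) ?_)
    rintro _ ⟨b, hb, rfl⟩
    exact hnorm a (hAE' ha) b (hDE (le_sp hB hb))
  exact hle ⟨x, hx, rfl⟩

/-- **The linear Baer–Suzuki theorem.** -/
theorem isUnipotentOn_iSup {G : Subgroup (LinearMap.GeneralLinearGroup k M)}
    (hWG : ∀ A ∈ W, A ≤ G) (hWW : ∀ A ∈ W, ∀ B ∈ W, IsUnipotentOn (A ⊔ B))
    (hWconj : ∀ A ∈ W, ∀ g ∈ G, conjBy A g ∈ W) : IsUnipotentOn (⨆ A ∈ W, A) := by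
  by_contra hcon
  have hsing : ∀ A ∈ W, Good W {A} := by
    intro A hA
    refine ⟨by simpa using hA, ?_⟩
    have : sp {A} = A := by simp [sp]
    rw [this]
    exact isUnipotentOn_mono le_sup_left (hWW A hA A hA)
  have hempty : Good W (∅ : Set (Subgroup (LinearMap.GeneralLinearGroup k M))) := by
    refine ⟨Set.empty_subset _, ?_⟩
    have : sp (∅ : Set (Subgroup (LinearMap.GeneralLinearGroup k M))) = ⊥ := by simp [sp]
    rw [this]; exact isUnipotentOn_bot
  -- two distinct maximal good sets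
  obtain ⟨T₁, -, hT₁⟩ := exists_maxi hempty
  have hex : ∃ B ∈ W, B ∉ T₁ := by
    by_contra hno
    push Not at hno
    exact hcon (isUnipotentOn_mono (sp_mono hno) hT₁.1.2)
  obtain ⟨B, hB, hBT₁⟩ := hex
  obtain ⟨T₂, hBT₂, hT₂⟩ := exists_maxi (hsing B hB)
  have hT₁₂ : T₁ ≠ T₂ := by
    rintro rfl
    exact hBT₁ (hBT₂ rfl)
  set N : Set ℕ := {n | ∃ S₁ S₂, Maxi W S₁ ∧ Maxi W S₂ ∧ S₁ ≠ S₂ ∧
    Module.finrank k (augSpan (sp (S₁ ∩ S₂))) = n} with hN
  have hne : N.Nonempty := ⟨_, T₁, T₂, hT₁, hT₂, hT₁₂, rfl⟩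
  have hbdd : BddAbove N := by
    refine ⟨Module.finrank k (M →ₗ[k] M), ?_⟩
    rintro _ ⟨_, _, _, _, _, rfl⟩
    exact Submodule.finrank_le _
  obtain ⟨S₁, S₂, h1, h2, h12, hn⟩ := Nat.sSup_mem hne hbdd
  obtain ⟨A₁, hA₁, hA₁', hA₁n⟩ := exists_normalizing hWG hWconj h1 h2 h12
  obtain ⟨A₂, hA₂, hA₂', hA₂n⟩ := exists_normalizing hWG hWconj h2 h1 h12.symm
  rw [Set.inter_comm] at hA₂n
  have hnorm : ∀ A : Subgroup (LinearMap.GeneralLinearGroup k M),
      (∀ a ∈ A, ∀ x ∈ sp (S₁ ∩ S₂), a * x * a⁻¹ ∈ sp (S₁ ∩ S₂)) →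
      A ≤ Subgroup.normalizer (sp (S₁ ∩ S₂) : Set (LinearMap.GeneralLinearGroup k M)) := by
    intro A hA a ha
    rw [Subgroup.mem_normalizer_iff]
    intro x
    constructor
    · intro hx; exact hA a ha x hx
    · intro hx
      have := hA a⁻¹ (A.inv_mem ha) _ hx
      have e : a⁻¹ * (a * x * a⁻¹) * a⁻¹⁻¹ = x := by group
      rwa [e] at this
  have hU : IsUnipotentOn (sp (S₁ ∩ S₂) ⊔ (A₁ ⊔ A₂)) := by
    refine isUnipotentOn_sup (isUnipotentOn_mono (sp_mono Set.inter_subset_left) h1.1.2)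
      (hWW A₁ (h1.1.1 hA₁) A₂ (h2.1.1 hA₂)) ?_
    intro h hh d hd
    exact ((Subgroup.mem_normalizer_iff.1 (sup_le (hnorm A₁ hA₁n) (hnorm A₂ hA₂n) hh)) d).1 hd
  have hgood : Good W (S₁ ∩ S₂ ∪ {A₁, A₂}) := by
    refine ⟨?_, isUnipotentOn_mono (sp_le ?_) hU⟩
    · rintro A (hA | hA | hA)
      · exact h1.1.1 hA.1
      · exact hA ▸ h1.1.1 hA₁
      · rw [Set.mem_singleton_iff] at hA; exact hA ▸ h2.1.1 hA₂
    · rintro A (hA | hA | hA)
      · exact (le_sp hA).trans le_sup_left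
      · rw [hA]; exact le_sup_left.trans le_sup_right
      · rw [Set.mem_singleton_iff] at hA; rw [hA]; exact le_sup_right.trans le_sup_right
  obtain ⟨S₃, hS₃, h3⟩ := exists_maxi hgood
  -- comparison of intersections
  have hcmp : ∀ S A : _, Maxi W S → A ∈ S → A ∈ W → A ∈ S₃ →
      S₁ ∩ S₂ ⊆ S → (∃ a ∈ A, (a : M →ₗ[k] M) - 1 ∉ augSpan (sp (S₁ ∩ S₂))) → S = S₃ := by
    intro S A hS hAS hAW hAS₃ hsub ⟨a, ha, ha'⟩
    by_contra hSS₃
    have hle : Module.finrank k (augSpan (sp (S ∩ S₃))) ≤ sSup N :=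
      le_csSup hbdd ⟨S, S₃, hS, h3, hSS₃, rfl⟩
    have hsub' : S₁ ∩ S₂ ⊆ S ∩ S₃ := fun B hB => ⟨hsub hB, hS₃ (Or.inl hB)⟩
    have h1' : augSpan (sp (S₁ ∩ S₂)) ≤ augSpan (sp (S ∩ S₃)) := augSpan_mono (sp_mono hsub')
    rw [← hn] at hle
    have := Submodule.eq_of_le_of_finrank_le h1' hle
    rw [this] at ha'
    exact ha' (sub_one_mem_augSpan (le_sp (⟨hAS, hAS₃⟩ : A ∈ S ∩ S₃) ha))
  have hx1 : ∃ a ∈ A₁, (a : M →ₗ[k] M) - 1 ∉ augSpan (sp (S₁ ∩ S₂)) := by
    by_contra hno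
    push Not at hno
    exact hA₁' (h2.mem (h1.1.1 hA₁) fun a ha =>
      augSpan_mono (sp_mono Set.inter_subset_right) (hno a ha))
  have hx2 : ∃ a ∈ A₂, (a : M →ₗ[k] M) - 1 ∉ augSpan (sp (S₁ ∩ S₂)) := by
    by_contra hno
    push Not at hno
    exact hA₂' (h1.mem (h2.1.1 hA₂) fun a ha =>
      augSpan_mono (sp_mono Set.inter_subset_left) (hno a ha))
  have e1 := hcmp S₁ A₁ h1 hA₁ (h1.1.1 hA₁) (hS₃ (Or.inr (Or.inl rfl))) Set.inter_subset_left hx1
  have e2 := hcmp S₂ A₂ h2 hA₂ (h2.1.1 hA₂) (hS₃ (Or.inr (Or.inr rfl))) Set.inter_subset_right hx2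
  exact h12 (e1.trans e2.symm)

end BS

end Cfsg.Agent.H740
end
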