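import Mathlib
import Cfsg.Agent.H740.Quad
import Cfsg.Agent.H740.BaerSuzuki
set_option linter.all false

/-!
# Fixed vectors, unipotent normal subgroups of irreducible groups
-/

set_option autoImplicit false

namespace Cfsg.Agent.H740

open Cfsg
open scoped Pointwise

section Fixed

variable {k : Type*} [Field k] {M : Type*} [AddCommGroup M] [Module k M]

lemma inv_apply_self (g : LinearMap.GeneralLinearGroup k M) (m : M) :
    ((g⁻¹ : LinearMap.GeneralLinearGroup k M) : M →ₗ[k] M) ((g : M →ₗ[k] M) m) = m := by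
  rw [← Module.End.mul_apply, Units.inv_mul, Module.End.one_apply]

lemma self_apply_inv (g : LinearMap.GeneralLinearGroup k M) (m : M) :
    (g : M →ₗ[k] M) (((g⁻¹ : LinearMap.GeneralLinearGroup k M) : M →ₗ[k] M) m) = m := by
  rw [← Module.End.mul_apply, Units.mul_inv, Module.End.one_apply]

/-- The vectors fixed by `H`. -/
def fixedBy (H : Subgroup (LinearMap.GeneralLinearGroup k M)) : Submodule k M where
  carrier := {m | ∀ h ∈ H, (h : M →ₗ[k] M) m = m}
  add_mem' := by
    intro a b ha hb h hh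
    rw [map_add, ha h hh, hb h hh]
  zero_mem' := by intro h _; rw [map_zero]
  smul_mem' := by
    intro c a ha h hh
    rw [map_smul, ha h hh]

/-- A nontrivial subgroup normalised by an irreducible group has no nonzero fixed vectors. -/
lemma eq_zero_of_fixed {G H : Subgroup (LinearMap.GeneralLinearGroup k M)}
    (hG : IsIrreducibleFor G) (hH : H ≠ ⊥) (hn : ∀ g ∈ G, ∀ h ∈ H, g * h * g⁻¹ ∈ H)
    {m : M} (hm : ∀ h ∈ H, (h : M →ₗ[k] M) m = m) : m = 0 := by
  have hinv : ∀ g ∈ G, ∀ w ∈ fixedBy H, (g : M →ₗ[k] M) w ∈ fixedBy H := by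
    intro g hg w hw h hh
    have h1 := hw _ (hn g⁻¹ (G.inv_mem hg) h hh)
    rw [inv_inv] at h1
    have h2 : (h : M →ₗ[k] M) ((g : M →ₗ[k] M) w) =
        (g : M →ₗ[k] M) (((g⁻¹ * h * g : LinearMap.GeneralLinearGroup k M) : M →ₗ[k] M) w) := by
      rw [← Module.End.mul_apply, ← Module.End.mul_apply, ← Units.val_mul, ← Units.val_mul]
      congr 2
      group
    rw [h2, h1]
  rcases hG.2 (fixedBy H) hinv with h | h
  · have : m ∈ fixedBy H := hm
    rw [h] at this
    exact (Submodule.mem_bot k).1 this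
  · exfalso
    apply hH
    rw [eq_bot_iff]
    intro x hx
    rw [Subgroup.mem_bot]
    apply Units.ext
    ext v
    have : v ∈ fixedBy H := by rw [h]; trivial
    rw [this x hx]; rfl

/-- **A unipotent subgroup normalised by an irreducible group is trivial.** -/
theorem eq_bot_of_isUnipotentOn {G H : Subgroup (LinearMap.GeneralLinearGroup k M)}
    (hG : IsIrreducibleFor G) (hn : ∀ g ∈ G, ∀ h ∈ H, g * h * g⁻¹ ∈ H) (hu : IsUnipotentOn H) :
    H = ⊥ := by
  by_contra hH
  obtain ⟨n, hn'⟩ := hu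
  simp only [map_sub_one_prod] at hn'
  have key : ∀ j, ∀ i, i + j = n → ∀ l : List (LinearMap.GeneralLinearGroup k M),
      (∀ g ∈ l, g ∈ H) → l.length = i →
      (List.map (fun g : LinearMap.GeneralLinearGroup k M => (g : M →ₗ[k] M) - 1) l).prod = 0 := by
    intro j
    induction j with
    | zero =>
      intro i hi l hl hlen
      exact hn' l hl (by omega)
    | succ j ih =>
      intro i hi l hl hlen
      ext m
      rw [LinearMap.zero_apply]
      apply eq_zero_of_fixed hG hH hn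
      intro h hh
      have := ih (i + 1) (by omega) (h :: l) (by
        intro g hg
        rcases List.mem_cons.1 hg with rfl | hg
        · exact hh
        · exact hl g hg) (by simp [hlen])
      rw [List.map_cons, List.prod_cons] at this
      have h2 := LinearMap.congr_fun this m
      rw [Module.End.mul_apply, LinearMap.sub_apply, Module.End.one_apply, LinearMap.zero_apply,
        sub_eq_zero] at h2
      exact h2
  have h0 := key n 0 (by omega) [] (by simp) rfl
  obtain ⟨m, hm⟩ := hG.1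
  apply hm
  have h2 := LinearMap.congr_fun h0 m
  simpa using h2

/-- The group generated by `1 + ν` (`ν² = 0`) has augmentation in the span of `ν`. -/
lemma sub_one_mem_span_of_mem_zpowers {ν : M →ₗ[k] M} (h : ν * ν = 0)
    {x : LinearMap.GeneralLinearGroup k M} (hx : x ∈ Subgroup.zpowers (oneAdd ν h)) :
    (x : M →ₗ[k] M) - 1 ∈ Submodule.span k {ν} := by
  rw [Subgroup.zpowers_eq_closure] at hx
  induction hx using Subgroup.closure_induction with
  | mem x hx =>
    rw [Set.mem_singleton_iff] at hx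
    rw [hx, coe_oneAdd, add_sub_cancel_left]
    exact Submodule.mem_span_singleton_self ν
  | one => simp
  | mul x y _ _ hx hy =>
    rw [Submodule.mem_span_singleton] at hx hy
    obtain ⟨a, ha⟩ := hx
    obtain ⟨b, hb⟩ := hy
    have : ((x * y : LinearMap.GeneralLinearGroup k M) : M →ₗ[k] M) - 1 =
        ((x : M →ₗ[k] M) - 1) * ((y : M →ₗ[k] M) - 1) + ((x : M →ₗ[k] M) - 1) +
          ((y : M →ₗ[k] M) - 1) := by
      rw [sub_mul, mul_sub, mul_one, one_mul, Units.val_mul]; abel
    rw [this, ← ha, ← hb, smul_mul_smul_comm, h, smul_zero, zero_add, ← add_smul]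
    exact Submodule.smul_mem _ _ (Submodule.mem_span_singleton_self ν)
  | inv x _ hx =>
    rw [Submodule.mem_span_singleton] at hx
    obtain ⟨a, ha⟩ := hx
    have h1 : x = oneAdd (a • ν) (smul_sq h a) := by
      rw [eq_oneAdd_iff, ha]; abel
    have : ((x⁻¹ : LinearMap.GeneralLinearGroup k M) : M →ₗ[k] M) - 1 = (-a) • ν := by
      rw [h1, coe_oneAdd_inv, neg_smul]; abel
    rw [this]
    exact Submodule.smul_mem _ _ (Submodule.mem_span_singleton_self ν)

/-- The group generated by `1 + ν` and `1 + μ` with `νμν = 0 = μνμ` is unipotent. -/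
theorem isUnipotentOn_zpowers_sup {ν μ : M →ₗ[k] M} (h : ν * ν = 0) (h' : μ * μ = 0)
    (h1 : ν * μ * ν = 0) (h2 : μ * ν * μ = 0) :
    IsUnipotentOn (Subgroup.zpowers (oneAdd ν h) ⊔ Subgroup.zpowers (oneAdd μ h')) := by
  rw [isUnipotentOn_iff]
  set S : Set (M →ₗ[k] M) := {ν, μ, ν * μ, μ * ν} with hS
  set T : Set (M →ₗ[k] M) := {0, ν * μ, μ * ν} with hT
  have hSS : S * S ⊆ T := by
    rintro _ ⟨a, ha, b, hb, rfl⟩
    simp only [hS, Set.mem_insert_iff, Set.mem_singleton_iff] at ha hb
    simp only [hT, Set.mem_insert_iff, Set.mem_singleton_iff]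
    have e1 : ν * (ν * μ) = 0 := by rw [← mul_assoc, h, zero_mul]
    have e2 : ν * (μ * ν) = 0 := by rw [← mul_assoc, h1]
    have e3 : μ * (ν * μ) = 0 := by rw [← mul_assoc, h2]
    have e4 : μ * (μ * ν) = 0 := by rw [← mul_assoc, h', zero_mul]
    rcases ha with rfl | rfl | rfl | rfl <;> rcases hb with rfl | rfl | rfl | rfl <;>
      simp [mul_assoc, h, h', e1, e2, e3, e4]
  have hTS : T * S ⊆ {0} := by
    rintro _ ⟨a, ha, b, hb, rfl⟩
    simp only [hS, Set.mem_insert_iff, Set.mem_singleton_iff] at hb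
    simp only [hT, Set.mem_insert_iff, Set.mem_singleton_iff] at ha
    simp only [Set.mem_singleton_iff]
    have e1 : ν * (ν * μ) = 0 := by rw [← mul_assoc, h, zero_mul]
    have e2 : ν * (μ * ν) = 0 := by rw [← mul_assoc, h1]
    have e3 : μ * (ν * μ) = 0 := by rw [← mul_assoc, h2]
    have e4 : μ * (μ * ν) = 0 := by rw [← mul_assoc, h', zero_mul]
    rcases ha with rfl | rfl | rfl <;> rcases hb with rfl | rfl | rfl | rfl <;>
      simp [mul_assoc, h, h', e1, e2, e3, e4]
  have hJJ : Submodule.span k S * Submodule.span k S ≤ Submodule.span k T := by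
    rw [Submodule.span_mul_span]; exact Submodule.span_mono hSS
  have hTJ : Submodule.span k T ≤ Submodule.span k S := by
    rw [Submodule.span_le]
    rintro x hx
    simp only [hT, Set.mem_insert_iff, Set.mem_singleton_iff] at hx
    rcases hx with rfl | rfl | rfl
    · exact zero_mem _
    · exact Submodule.subset_span (by simp [hS])
    · exact Submodule.subset_span (by simp [hS])
  have hJ3 : Submodule.span k S * Submodule.span k S * Submodule.span k S ≤ ⊥ := by
    refine (mul_le_mul' hJJ le_rfl).trans ?_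
    rw [Submodule.span_mul_span]
    refine (Submodule.span_mono hTS).trans ?_
    rw [Submodule.span_singleton_eq_bot.2 rfl]
  have hle : augSpan (sp {Subgroup.zpowers (oneAdd ν h), Subgroup.zpowers (oneAdd μ h')}) ≤
      Submodule.span k S := by
    apply augSpan_sp_le (hJJ.trans hTJ)
    intro A hA a ha
    rcases hA with rfl | rfl
    · refine (Submodule.span_mono ?_) (sub_one_mem_span_of_mem_zpowers h ha)
      simp [hS]
    · refine (Submodule.span_mono ?_) (sub_one_mem_span_of_mem_zpowers h' ha)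
      simp [hS]
  refine nilpotent_of_le ((augSpan_mono (sup_le (le_sp (by simp)) (le_sp (by simp)))).trans hle)
    ⟨3, ?_⟩
  rw [pow_succ, pow_two, Submodule.zero_eq_bot, eq_bot_iff]
  exact hJ3

/-- **A `G`-invariant family of square-zero `ν` with `1 + ν ∈ G` and `νν'ν = 0` for all pairs is
trivial if `G` is irreducible.** -/
theorem eq_zero_of_family [FiniteDimensional k M]
    {G : Subgroup (LinearMap.GeneralLinearGroup k M)} (hG : IsIrreducibleFor G)
    (S : Set (M →ₗ[k] M)) (h1 : ∀ ν ∈ S, QIn G ν)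
    (h2 : ∀ ν ∈ S, ∀ g ∈ G, (g : M →ₗ[k] M) * ν *
      ((g⁻¹ : LinearMap.GeneralLinearGroup k M) : M →ₗ[k] M) ∈ S)
    (h3 : ∀ ν ∈ S, ∀ μ ∈ S, ν * μ * ν = 0) : ∀ ν ∈ S, ν = 0 := by
  set W : Set (Subgroup (LinearMap.GeneralLinearGroup k M)) :=
    {A | ∃ (ν : M →ₗ[k] M) (h : ν * ν = 0), ν ∈ S ∧ A = Subgroup.zpowers (oneAdd ν h)} with hW
  have hconj : ∀ A ∈ W, ∀ g ∈ G, conjBy A g ∈ W := by
    rintro _ ⟨ν, h, hν, rfl⟩ g hg
    refine ⟨_, (h1 _ (h2 ν hν g hg)).1, h2 ν hν g hg, ?_⟩
    rw [conjBy, MonoidHom.map_zpowers]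
    congr 1
    apply Units.ext
    rw [coe_oneAdd]
    show ((g * oneAdd ν h * g⁻¹ : LinearMap.GeneralLinearGroup k M) : M →ₗ[k] M) = _
    rw [Units.val_mul, Units.val_mul, coe_oneAdd, mul_add, mul_one, add_mul, Units.mul_inv]
  have hu : IsUnipotentOn (⨆ A ∈ W, A) := by
    apply isUnipotentOn_iSup (G := G)
    · rintro _ ⟨ν, h, hν, rfl⟩
      rw [Subgroup.zpowers_le]
      exact (h1 ν hν).mem_one
    · rintro _ ⟨ν, h, hν, rfl⟩ _ ⟨μ, h', hμ, rfl⟩
      exact isUnipotentOn_zpowers_sup h h' (h3 _ hν _ hμ) (h3 _ hμ _ hν)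
    · exact hconj
  have hbot : (⨆ A ∈ W, A) = ⊥ := by
    refine eq_bot_of_isUnipotentOn hG (fun g hg h hh => ?_) hu
    have hle : (⨆ A ∈ W, A) ≤ Subgroup.comap (MulAut.conj g).toMonoidHom (⨆ A ∈ W, A) := by
      refine iSup₂_le fun A hA => ?_
      rw [← Subgroup.map_le_iff_le_comap]
      exact le_iSup₂_of_le _ (hconj A hA g hg) le_rfl
    exact hle hh
  intro ν hν
  have hmem : oneAdd ν (h1 ν hν).1 ∈ (⨆ A ∈ W, A) := by
    refine (le_iSup₂_of_le (Subgroup.zpowers (oneAdd ν (h1 ν hν).1)) ⟨ν, _, hν, rfl⟩ le_rfl :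
      Subgroup.zpowers (oneAdd ν (h1 ν hν).1) ≤ _) (Subgroup.mem_zpowers _)
  rw [hbot, Subgroup.mem_bot] at hmem
  have := congrArg (fun g : LinearMap.GeneralLinearGroup k M => (g : M →ₗ[k] M)) hmem
  simpa using this

end Fixed

end Cfsg.Agent.H740
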